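import Cfsg.Agent.EqLemmas
import Cfsg.Agent.Lib.ChevBN.Facts
import Cfsg.Agent.Lib.ChevOrder.CardH
import Cfsg.Agent.Lib.ChevOrder.CardU
import Cfsg.Agent.Lib.ChevOrder.Triangular
import Cfsg.Prelude.Def_ChevAutomorphisms
import Mathlib.FieldTheory.Fixed
import Mathlib.Algebra.Field.Shrink
import Mathlib.Logic.Small.Basic

/-!
# Fixed points of field automorphisms of Chevalley groups

`exists_fixed_eq`: an element of the group over `F` fixed by `σ` comes from the group over the fixed field, when the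
torus is parametrised injectively. `fieldAut_fixed`: the statement about centralisers of field automorphisms of prime
order.
-/

set_option autoImplicit false

namespace Cfsg.Agent.ChevFixed

open Cfsg.Lie Cfsg.Lie.ChevalleyDatum Cfsg.Agent.Chev Cfsg.Agent.ChevSt Cfsg.Agent.ChevBN Cfsg.Agent.ChevOrder

universe u v

variable {D : ChevalleyDatum} {F : Type u} [Field F] {K : Type v} [Field K]

/-- The map on matrices induced by a map of fields. -/
def mapG (D : ChevalleyDatum) (f : K →+* F) : GL D.Idx K →* GL D.Idx F :=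
  Units.map (f.mapMatrix : Matrix D.Idx D.Idx K →+* Matrix D.Idx D.Idx F).toMonoidHom

theorem coe_mapG (f : K →+* F) (g : GL D.Idx K) :
    (mapG D f g : Matrix D.Idx D.Idx F) = (g : Matrix D.Idx D.Idx K).map f := rfl

theorem mapG_injective (f : K →+* F) : Function.Injective (mapG D f) := fun a b h => by
  apply Units.ext
  exact Matrix.map_injective f.injective (congrArg (fun g : GL D.Idx F => (g : Matrix D.Idx D.Idx F)) h)

variable (hD : Good D)
include hD

theorem mapG_xg (f : K →+* F) (r : ℕ) (t : K) : mapG D f (xg hD K r t) = xg hD F r (f t) := by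
  apply Units.ext
  rw [coe_mapG, coe_xg, coe_xg]
  by_cases hr : r < D.nroots
  · rw [x_eq_xR D hr, x_eq_xR D hr, xR_map]
  · rw [x_of_le D (Nat.not_lt.1 hr), x_of_le D (Nat.not_lt.1 hr), Matrix.map_one _ (map_zero f) (map_one f)]

theorem mapG_ng (f : K →+* F) (r : ℕ) (t : K) : mapG D f (ng hD K r t) = ng hD F r (f t) := by
  simp only [ng, map_mul, mapG_xg hD, map_neg, map_inv₀]

theorem mapG_hg (f : K →+* F) (r : ℕ) (t : K) : mapG D f (hg hD K r t) = hg hD F r (f t) := by
  simp only [hg, map_mul, mapG_ng hD, map_neg, map_one]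

theorem mapG_group_le (f : K →+* F) : (D.group K).map (mapG D f) ≤ D.group F := by
  rw [ChevalleyDatum.group, MonoidHom.map_closure]
  refine (Subgroup.closure_le _).2 ?_
  rintro _ ⟨g, ⟨r, t, e⟩, rfl⟩
  obtain rfl : g = xg hD K r.val t := Units.ext (by rw [e]; simp [ChevalleyDatum.x])
  rw [mapG_xg hD]
  exact xg_mem_group hD _ _

theorem mapG_pos (f : K →+* F) {g : GL D.Idx K} (hg' : g ∈ D.posUnipotent K) :
    mapG D f g ∈ D.posUnipotent F := by
  have h : (D.posUnipotent K).map (mapG D f) ≤ D.posUnipotent F := by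
    rw [ChevalleyDatum.posUnipotent, MonoidHom.map_closure]
    refine (Subgroup.closure_le _).2 ?_
    rintro _ ⟨g, ⟨r, t, hr, e⟩, rfl⟩
    obtain rfl : g = xg hD K r t := Units.ext e
    rw [mapG_xg hD]
    exact Subgroup.subset_closure ⟨r, f t, hr, coe_xg hD r _⟩
  exact h ⟨g, hg', rfl⟩

theorem mapG_diag (f : K →+* F) {g : GL D.Idx K} (hg' : g ∈ D.diagonalSubgroup K) :
    mapG D f g ∈ D.diagonalSubgroup F := by
  have h : (D.diagonalSubgroup K).map (mapG D f) ≤ D.diagonalSubgroup F := by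
    rw [ChevalleyDatum.diagonalSubgroup, MonoidHom.map_closure]
    refine (Subgroup.closure_le _).2 ?_
    rintro _ ⟨g, ⟨r, t, hr, ht, e⟩, rfl⟩
    obtain rfl : g = hg hD K r t := Units.ext (e.trans (coe_hg hD r t).symm)
    rw [mapG_hg hD]
    exact Subgroup.subset_closure ⟨r, f t, hr, by simpa using ht, coe_hg hD r _⟩
  exact h ⟨g, hg', rfl⟩

theorem mapG_borel (f : K →+* F) {g : GL D.Idx K} (hg' : g ∈ D.borelSubgroup K) :
    mapG D f g ∈ D.borelSubgroup F := by
  obtain ⟨u, hu, h, hh, rfl⟩ := (mem_borel_iff hD).1 hg'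
  rw [map_mul]
  exact Subgroup.mul_mem_sup (mapG_pos hD f hu) (mapG_diag hD f hh)

theorem mapG_torusHom (f : K →+* F) (c : Fin D.rank → Kˣ) :
    mapG D f (torusHom D K c) = torusHom D F (fun i => Units.map f.toMonoidHom (c i)) := by
  apply Units.ext
  rw [coe_mapG, coe_torusHom, coe_torusHom, dg, dg, Matrix.diagonal_map (map_zero f)]
  congr 1
  ext a
  rcases a with i | q
  · simp
  · show f ((chi c q.val : Kˣ) : K) = ((chi (fun i => Units.map f.toMonoidHom (c i)) q.val : Fˣ) : F)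
    rw [show f ((chi c q.val : Kˣ) : K) = ((Units.map f.toMonoidHom (chi c q.val) : Fˣ) : F) from rfl]
    congr 1
    simp [ChevOrder.chi, map_prod, map_zpow]

variable (ι : K →+* F) (σ : F →+* F)

/-- The image of the group over the fixed field. -/
def fixedImage (_hD : Good D) : Subgroup (GL D.Idx F) := (D.group K).map (mapG D ι)

omit hD in
theorem mapG_comp_fixed (hfix : ∀ t, σ (ι t) = ι t) (g : GL D.Idx K) :
    mapG D σ (mapG D ι g) = mapG D ι g := by
  apply Units.ext
  ext a b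
  exact hfix _

omit ι σ in
/-- Splitting off a lowest root: a closed set of positive roots `T` is `x_k · (T - k)`, uniquely. -/
theorem genBy_step [Finite F] {f : ℕ → ℤ} (hf : IsLin D f) {m : ℕ} {T : Finset ℕ} (hT : T.card = m + 1)
    (hpos : ∀ q ∈ T, q < D.nroots ∧ 0 < f q)
    (hclosed : ∀ r ∈ T, ∀ s ∈ T, s ≠ r → ∀ τ ∈ D.commTerms r s, τ.1 ∈ T) :
    ∃ k ∈ T, (T.erase k).card = m ∧
      (∀ r ∈ T.erase k, ∀ s ∈ T.erase k, s ≠ r → ∀ τ ∈ D.commTerms r s, τ.1 ∈ T.erase k) ∧
      (∀ t : F, xg hD F k t ∈ Subgroup.normalizer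
        ((matSys D hD F).genBy (T.erase k : Set ℕ) : Set (GL D.Idx F))) ∧
      (∀ g ∈ (matSys D hD F).genBy (T : Set ℕ),
        ∃ t, ∃ g' ∈ (matSys D hD F).genBy (T.erase k : Set ℕ), g = xg hD F k t * g') ∧
      (∀ t t', ∀ g ∈ (matSys D hD F).genBy (T.erase k : Set ℕ),
        ∀ g' ∈ (matSys D hD F).genBy (T.erase k : Set ℕ),
          xg hD F k t * g = xg hD F k t' * g' → t = t' ∧ g = g') ∧
      (∀ t : F, xg hD F k t ∈ (matSys D hD F).genBy (T : Set ℕ)) ∧
      (matSys D hD F).genBy (T.erase k : Set ℕ) ≤ (matSys D hD F).genBy (T : Set ℕ) := by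
  obtain ⟨k, hk, hmin⟩ := T.exists_min_image f (Finset.card_pos.mp (by omega))
  set T' := T.erase k with hT'
  let S := matSys D hD F
  obtain ⟨hkn, hkpos⟩ := hpos k hk
  let S := matSys D hD F
  have hgt : ∀ r ∈ T, ∀ s ∈ T, s ≠ r → ∀ τ ∈ D.commTerms r s, τ.1 ∈ T' := by
    intro r hr s hs hne τ hτ
    refine Finset.mem_erase.mpr ⟨?_, hclosed r hr s hs hne τ hτ⟩
    intro hτk
    have h₂ : s ≠ D.neg r := by
      rintro rfl
      have := (hpos _ hs).2
      rw [hf.neg r (hpos r hr).1] at this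
      have := (hpos r hr).2
      omega
    obtain ⟨-, h4, h5, h6⟩ := hf.commTerms hD (hpos r hr).1 (hpos s hs).1 hne h₂ hτ
    rw [hτk] at h6
    have := hmin r hr
    have := (hpos r hr).2
    have := (hpos s hs).2
    have e1 : f r ≤ (τ.2.2.1 : ℤ) * f r := le_mul_of_one_le_left (by omega) (by exact_mod_cast h4)
    have e2 : f s ≤ (τ.2.2.2 : ℤ) * f s := le_mul_of_one_le_left (by omega) (by exact_mod_cast h5)
    omega
  have hT'T : S.genBy (T' : Set ℕ) ≤ S.genBy (T : Set ℕ) :=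
    Subgroup.closure_mono fun g ⟨q, hq, u, e⟩ => ⟨q, Finset.mem_of_mem_erase hq, u, e⟩
  let Φ : F × S.genBy (T' : Set ℕ) → S.genBy (T : Set ℕ) :=
    fun p => ⟨S.x k p.1 * p.2.1, mul_mem (S.x_mem_genBy hk p.1) (hT'T p.2.2)⟩
  have hN : ∀ t : F, S.x k t ∈ Subgroup.normalizer (S.genBy (T' : Set ℕ) : Set (GL D.Idx F)) := by
    intro t
    refine S.x_mem_normalizer_genBy hkn (fun s hs => (hpos s (Finset.mem_of_mem_erase hs)).1) (fun s hs => ?_)
      (fun s hs τ hτ => hgt k hk s (Finset.mem_of_mem_erase hs) (Finset.ne_of_mem_erase hs) τ hτ) t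
    refine ⟨Finset.ne_of_mem_erase hs, ?_⟩
    rintro rfl
    have := (hpos _ (Finset.mem_of_mem_erase hs)).2
    rw [hf.neg k hkn] at this
    omega
  have hsurj : Function.Surjective Φ := by
    rintro ⟨g, hg⟩
    suffices h : ∃ t, ∃ g' ∈ S.genBy (T' : Set ℕ), g = S.x k t * g' by
      obtain ⟨t, g', hg', e⟩ := h
      exact ⟨(t, ⟨g', hg'⟩), Subtype.ext e.symm⟩
    induction hg using Subgroup.closure_induction with
    | mem g hg =>
      obtain ⟨q, hq, u, rfl⟩ := hg
      by_cases hqk : q = k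
      · subst hqk; exact ⟨u, 1, one_mem _, by rw [mul_one]⟩
      · exact ⟨0, S.x q u, S.x_mem_genBy (Finset.mem_erase.mpr ⟨hqk, hq⟩) u, by rw [S.x_zero, one_mul]⟩
    | one => exact ⟨0, 1, one_mem _, by rw [S.x_zero, one_mul]⟩
    | mul a b _ _ ha hb =>
      obtain ⟨t, a', ha', rfl⟩ := ha
      obtain ⟨u, b', hb', rfl⟩ := hb
      refine ⟨t + u, ((S.x k u)⁻¹ * a' * S.x k u) * b',
        mul_mem ((Subgroup.mem_normalizer_iff''.mp (hN u) a').mp ha') hb', ?_⟩
      rw [S.add]; group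
    | inv a _ ha =>
      obtain ⟨t, a', ha', rfl⟩ := ha
      refine ⟨-t, S.x k t * a'⁻¹ * (S.x k t)⁻¹,
        (Subgroup.mem_normalizer_iff.mp (hN t) _).mp (inv_mem ha'), ?_⟩
      rw [S.x_neg]; group
  have hT'card : T'.card = m := by rw [hT', Finset.card_erase_of_mem hk, hT]; omega
  have hclosed' : ∀ r ∈ T', ∀ s ∈ T', s ≠ r → ∀ τ ∈ D.commTerms r s, τ.1 ∈ T' :=
    fun r hr s hs hne τ hτ => hgt r (Finset.mem_of_mem_erase hr) s (Finset.mem_of_mem_erase hs) hne τ hτ
  have hinj : Function.Injective Φ := by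
    haveI : Finite (GL D.Idx F) := inferInstance
    refine (hsurj.bijective_of_nat_card_le ?_).1
    rw [Nat.card_prod, card_genBy S hD hf m T' hT'card (fun q hq => hpos q (Finset.mem_of_mem_erase hq)) hclosed',
      card_genBy S hD hf (m + 1) T hT hpos hclosed, pow_succ']
  refine ⟨k, hk, hT'card, hclosed', hN, fun g hg => ?_, fun t t' g hg g' hg' e => ?_, fun t => S.x_mem_genBy hk t, hT'T⟩
  · obtain ⟨⟨t, g', hg'⟩, e⟩ := hsurj ⟨g, hg⟩
    exact ⟨t, g', hg', (congrArg Subtype.val e).symm⟩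
  · have h := hinj (a₁ := (t, ⟨g, hg⟩)) (a₂ := (t', ⟨g', hg'⟩)) (Subtype.ext e)
    exact ⟨congrArg Prod.fst h, congrArg (fun p : F × S.genBy (T' : Set ℕ) => p.2.1) h⟩

omit ι in
theorem mapG_genBy {T : Set ℕ} {g : GL D.Idx F} (hg : g ∈ (matSys D hD F).genBy T) :
    mapG D σ g ∈ (matSys D hD F).genBy T := by
  have h : ((matSys D hD F).genBy T).map (mapG D σ) ≤ (matSys D hD F).genBy T := by
    rw [Sys.genBy, MonoidHom.map_closure]
    refine (Subgroup.closure_le _).2 ?_
    rintro _ ⟨x, ⟨q, hq, u, rfl⟩, rfl⟩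
    exact Subgroup.subset_closure ⟨q, hq, σ u, mapG_xg hD σ q u⟩
  exact h ⟨g, hg, rfl⟩

/-- The fixed points of a product of root groups. -/
theorem fixed_genBy [Finite F] (hfix : ∀ t, σ t = t → ∃ t₀, ι t₀ = t) {f : ℕ → ℤ} (hf : IsLin D f) :
    ∀ (m : ℕ) (T : Finset ℕ), T.card = m → (∀ q ∈ T, q < D.nroots ∧ 0 < f q) →
      (∀ r ∈ T, ∀ s ∈ T, s ≠ r → ∀ τ ∈ D.commTerms r s, τ.1 ∈ T) →
      ∀ g ∈ (matSys D hD F).genBy (T : Set ℕ), mapG D σ g = g → g ∈ fixedImage ι hD := by
  intro m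
  induction m with
  | zero =>
    intro T hT _ _ g hg _
    rw [Finset.card_eq_zero] at hT
    subst hT
    have : g = 1 := by simpa [Sys.genBy] using hg
    rw [this]
    exact one_mem _
  | succ m ih =>
    intro T hT hpos hclosed g hg hfg
    obtain ⟨k, hk, hT'card, hclosed', hN, hdec, huniq, -, -⟩ := genBy_step (F := F) hD hf hT hpos hclosed
    obtain ⟨t, g', hg', e⟩ := hdec g hg
    have e' : xg hD F k t * g' = g := e.symm
    have h3 := huniq (σ t) t _ (mapG_genBy hD σ hg') g' hg' (by rw [← mapG_xg hD σ k t, ← map_mul, e', hfg])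
    obtain ⟨t₀, rfl⟩ := hfix t h3.1
    rw [← e']
    refine mul_mem ⟨xg hD K k t₀, xg_mem_group hD _ _, mapG_xg hD ι k t₀⟩ ?_
    exact ih (T.erase k) hT'card (fun q hq => hpos q (Finset.mem_of_mem_erase hq)) hclosed' g' hg' h3.2

/-- The fixed points in the unipotent subgroup. -/
theorem fixed_pos [Finite F] (hfix : ∀ t, σ t = t → ∃ t₀, ι t₀ = t) {g : GL D.Idx F}
    (hg : g ∈ D.posUnipotent F) (hfg : mapG D σ g = g) : g ∈ fixedImage ι hD := by
  obtain ⟨o, ho⟩ := hD.order
  set A := (Finset.range D.nroots).filter fun r => D.IsPosRoot r with hA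
  have hmem : ∀ r, r ∈ A ↔ r < D.nroots ∧ 0 < o r := fun r => by
    simp only [hA, Finset.mem_filter, Finset.mem_range]
    exact and_congr_right fun hr => ho.pos_iff r hr
  have hlin : IsLin D o := ⟨ho.add, ho.neg⟩
  refine fixed_genBy hD ι σ hfix hlin _ A rfl (fun q hq => (hmem q).1 hq) ?_ g ?_ hfg
  · intro r hr s hs hne τ hτ
    obtain ⟨hr1, hr2⟩ := (hmem r).1 hr
    obtain ⟨hs1, hs2⟩ := (hmem s).1 hs
    have h₂ : s ≠ D.neg r := by rintro rfl; rw [hlin.neg r hr1] at hs2; omega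
    obtain ⟨h3, h4, h5, h6⟩ := hlin.commTerms hD hr1 hs1 hne h₂ hτ
    exact (hmem _).2 ⟨h3, by rw [h6]; positivity⟩
  · refine Subgroup.closure_mono ?_ hg
    rintro g ⟨r, t, hr, hg⟩
    exact ⟨r, (hmem r).2 ⟨hr.1, (ho.pos_iff r hr.1).1 hr⟩, t, Units.ext hg⟩

variable {M : List (List ℤ)} {d : ℤ} (hR : Roots D M d)
include hR

/-- An element fixed by `σ` comes from the group over the fixed field. -/
theorem exists_fixed_eq [Finite F] (hfix : ∀ t, σ t = t → ∃ t₀, ι t₀ = t)
    (htor : Function.Injective (torusHom D F)) {g : GL D.Idx F} (hg : g ∈ D.group F)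
    (hfg : mapG D σ g = g) : g ∈ fixedImage ι hD := by
  set R := chevRGD hD hR F
  rw [← chev_G hD hR] at hg
  obtain ⟨b, hb, l, u, hu, e⟩ := R.exists_normalForm hg
  have hnfix : mapG D σ (R.nw l) = R.nw l := by
    show mapG D σ ((l.map R.n).prod) = (l.map R.n).prod
    rw [map_list_prod, List.map_map]
    congr 1
    refine List.map_congr_left fun i _ => ?_
    show mapG D σ (ng hD F (D.simple i.val) 1) = ng hD F (D.simple i.val) 1
    rw [mapG_ng hD, map_one]
  have hnI : R.nw l ∈ fixedImage ι hD := by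
    refine list_prod_mem fun x hx => ?_
    obtain ⟨i, -, rfl⟩ := List.mem_map.1 hx
    refine ⟨ng hD K (D.simple i.val) 1, ?_, by rw [mapG_ng hD, map_one]; rfl⟩
    exact mul_mem (mul_mem (xg_mem_group hD _ _) (xg_mem_group hD _ _)) (xg_mem_group hD _ _)
  have hu' : mapG D σ u ∈ R.Uminus l := by
    have h : (R.Uminus l).map (mapG D σ) ≤ R.Uminus l := by
      show (R.span _).map _ ≤ R.span _
      rw [RGD.RootData.span, Subgroup.map_iSup]
      refine iSup_le fun s => ?_
      rw [Subgroup.map_iSup]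
      refine iSup_le fun hs => ?_
      rintro _ ⟨x, hx, rfl⟩
      obtain ⟨t, rfl⟩ := (mem_rootSubgroup hD _).1 hx
      rw [mapG_xg hD]
      exact R.U_le_span hs (xg_mem_rootSubgroup hD _ _)
    exact h ⟨u, hu, rfl⟩
  have hb' : mapG D σ b ∈ R.B := by
    rw [chev_B hD hR] at hb ⊢
    exact mapG_borel hD σ hb
  have e2 : b * R.nw l * u = mapG D σ b * R.nw l * mapG D σ u := by
    rw [← e, ← hfg, e, map_mul, map_mul, hnfix]
  obtain ⟨ebb, euu⟩ := R.normalForm_unique (k := 1) (one_mem _) (one_mul _).symm hb hb' hu hu' e2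
  rw [chev_B hD hR] at hb
  obtain ⟨v, hv, h, hh, rfl⟩ := (mem_borel_iff hD).1 hb
  have hvh : mapG D σ v = v ∧ mapG D σ h = h := by
    have h1 : v⁻¹ * mapG D σ v = h * (mapG D σ h)⁻¹ := by
      have e3 : v * h = mapG D σ v * mapG D σ h := by rw [← map_mul]; exact ebb
      rw [inv_mul_eq_iff_eq_mul, ← mul_assoc, e3, mul_inv_cancel_right]
    have h2 : v⁻¹ * mapG D σ v ∈ D.posUnipotent F ⊓ D.diagonalSubgroup F :=
      Subgroup.mem_inf.2 ⟨Subgroup.mul_mem _ (Subgroup.inv_mem _ hv) (mapG_pos hD σ hv),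
        h1 ▸ Subgroup.mul_mem _ hh (Subgroup.inv_mem _ (mapG_diag hD σ hh))⟩
    rw [posUnipotent_inf_diagonal hD, Subgroup.mem_bot] at h2
    refine ⟨(inv_mul_eq_one.1 h2).symm, ?_⟩
    rw [h2] at h1
    exact (mul_inv_eq_one.1 h1.symm).symm
  rw [e]
  refine mul_mem (mul_mem (mul_mem (fixed_pos hD ι σ hfix hv hvh.1) ?_) hnI) (fixed_pos hD ι σ hfix ?_ euu.symm)
  · obtain ⟨c, rfl⟩ := (torusHom_range (F := F) hD).ge hh
    have hc := htor ((mapG_torusHom hD σ c).symm.trans hvh.2)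
    choose c₀ hc₀ using fun i => hfix (c i : F) (congrArg (fun x : Fin D.rank → Fˣ => (x i : F)) hc)
    have hne : ∀ i, c₀ i ≠ 0 := fun i h0 => (c i).ne_zero (by rw [← hc₀ i, h0, map_zero])
    refine ⟨torusHom D K fun i => Units.mk0 (c₀ i) (hne i), borel_le_group hD hR
      (Subgroup.mem_sup_right ((torusHom_range (F := K) hD).le ⟨_, rfl⟩)), ?_⟩
    rw [mapG_torusHom hD]
    congr 1
    ext i
    exact hc₀ i
  · rw [← chev_Upos hD hR]
    exact R.Uminus_le_Upos l hu

omit ι σ in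
/-- A parametrised torus is injective when the invariant factors are prime to `q - 1`. -/
theorem torusHom_injective_of_gcd [Fintype F] {P Pi Q Qi : List (List ℤ)} {e : List ℕ}
    (hT : TorusOK D P Pi Q Qi e = true) (he : ∀ i < D.rank, (Fintype.card F - 1).gcd (e.getD i 0) = 1) :
    Function.Injective (torusHom D F) := by
  have h := card_diagonal (F := F) hD hR hT
  rw [Finset.prod_eq_one (fun i _ => he i.val i.isLt), one_mul,
    ← torusHom_range hD] at h
  have hs : Function.Surjective (torusHom D F).rangeRestrict := MonoidHom.rangeRestrict_surjective _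
  have hb := hs.bijective_of_nat_card_le (by
    rw [h, Nat.card_fun, Nat.card_units, Nat.card_eq_fintype_card, Nat.card_fin])
  exact fun a b hab => hb.1 (Subtype.ext hab)

omit ι σ in
/-- A parametrised torus is injective when all invariant factors are `1`. -/
theorem torusHom_injective [Fintype F] {P Pi Q Qi : List (List ℤ)} {e : List ℕ}
    (hT : TorusOK D P Pi Q Qi e = true) (he : ∀ i < D.rank, e.getD i 0 = 1) :
    Function.Injective (torusHom D F) :=
  torusHom_injective_of_gcd hD hR hT fun i hi => by rw [he i hi, Nat.gcd_one_right]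

omit ι σ hR in
/-- A field automorphism acts entrywise. -/
theorem act_eq {φ : MulAut ↥(D.group F)} {σ : F ≃+* F}
    (hσ : ∀ (g : ↥(D.group F)) (r : ℕ) (t : F), r < D.nroots →
      ((g : GL D.Idx F) : Matrix D.Idx D.Idx F) = D.x F r t →
        ((φ g : GL D.Idx F) : Matrix D.Idx D.Idx F) = D.x F r (σ t)) :
    ∀ g : D.group F, (φ g : GL D.Idx F) = mapG D (σ : F →+* F) (g : GL D.Idx F) := by
    rintro ⟨g, hg⟩
    induction hg using Subgroup.closure_induction with
    | mem x hx =>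
      obtain ⟨q, t, e⟩ := hx
      obtain rfl : x = xg hD F q.val t := Units.ext (by rw [e]; simp [ChevalleyDatum.x])
      rw [mapG_xg hD]
      exact Units.ext (hσ _ q.val t q.isLt (coe_xg hD _ _))
    | one =>
      show ((φ 1 : D.group F) : GL D.Idx F) = _
      rw [map_one, map_one]
      rfl
    | mul x y hx hy ihx ihy =>
      show ((φ (⟨x, hx⟩ * ⟨y, hy⟩) : D.group F) : GL D.Idx F) = mapG D (σ : F →+* F) (x * y)
      rw [map_mul, map_mul, Subgroup.coe_mul, ihx, ihy]
    | inv x hx ihx =>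
      show ((φ (⟨x, hx⟩⁻¹) : D.group F) : GL D.Idx F) = mapG D (σ : F →+* F) x⁻¹
      rw [map_inv, map_inv, InvMemClass.coe_inv, ihx]

omit ι σ in
/-- Centralisers of field automorphisms of prime order. -/
theorem fieldAut_fixed [Fintype F] (htor : Function.Injective (torusHom D F)) (hn : 0 < D.nroots)
    (φ : MulAut ↥(D.group F)) (hφ : D.IsFieldAut φ) (r : ℕ) (hr : r.Prime) (ho : orderOf φ = r) :
    ∃ (F₀ : Type) (_ : Field F₀) (_ : Fintype F₀), Fintype.card F = Fintype.card F₀ ^ r ∧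
      Nonempty (↥((MulEquiv.toMonoidHom φ).eqLocus (MonoidHom.id ↥(D.group F))) ≃* ↥(D.group F₀)) := by
  classical
  obtain ⟨σ, hσ⟩ := hφ
  -- powers of `φ` act entrywise
  have hpow : ∀ (k : ℕ) (g : D.group F),
      ((φ ^ k) g : GL D.Idx F) = mapG D ((σ ^ k : F ≃+* F) : F →+* F) (g : GL D.Idx F) := by
    have h1 := act_eq hD hσ
    intro k
    induction k with
    | zero =>
      intro g
      apply Units.ext
      ext a b
      rfl
    | succ k ih =>
      intro g
      rw [pow_succ', pow_succ', MulAut.mul_apply, h1, ih]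
      apply Units.ext
      ext a b
      rfl
  have hone : ∀ k : ℕ, φ ^ k = 1 ↔ σ ^ k = 1 := by
    intro k
    constructor
    · intro h
      apply RingEquiv.ext
      intro t
      have h1 := hpow k ⟨xg hD F 0 t, xg_mem_group hD _ _⟩
      rw [h] at h1
      have h2 : xg hD F 0 t = mapG D ((σ ^ k : F ≃+* F) : F →+* F) (xg hD F 0 t) := h1
      rw [mapG_xg hD] at h2
      have h3 : xg hD F 0 ((σ ^ k : F ≃+* F) t - t) = 1 := by
        have h4 : xg hD F 0 t = xg hD F 0 ((σ ^ k : F ≃+* F) t) := h2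
        rw [sub_eq_add_neg, ← xg_add hD hn, ← h4, xg_add hD hn, add_neg_cancel, xg_zero]
      exact sub_eq_zero.1 (xg_eq_one hD hn h3)
    · intro h
      apply MulEquiv.ext
      intro g
      apply Subtype.ext
      rw [hpow, h]
      apply Units.ext
      ext a b
      rfl
  have hσord : orderOf σ = r := by
    rw [← ho, orderOf_eq_orderOf_iff]
    exact fun k => (hone k).symm
  -- the fixed field
  let G := Subgroup.zpowers σ
  let S := FixedPoints.subfield G F
  have hS : ∀ t : F, t ∈ S ↔ σ t = t := by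
    intro t
    refine ⟨fun h => h ⟨σ, Subgroup.mem_zpowers σ⟩, fun h g => ?_⟩
    obtain ⟨g, hg⟩ := g
    have h1 : G ≤ MulAction.stabilizer (F ≃+* F) t := Subgroup.zpowers_le.2 h
    exact h1 hg
  haveI : Finite (F ≃+* F) := Finite.of_injective (fun e : F ≃+* F => (e : F → F)) DFunLike.coe_injective
  letI : Fintype G := Fintype.ofFinite _
  letI : Fintype S := Fintype.ofFinite _
  have hcard : Fintype.card F = Fintype.card S ^ r := by
    rw [Module.card_eq_pow_finrank (K := S), FixedPoints.finrank_eq_card G F, ← Nat.card_eq_fintype_card (α := G),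
      Nat.card_zpowers, hσord]
  haveI : Small.{0} S := small_of_injective (Fintype.equivFin S).injective
  letI : Fintype (Shrink.{0} S) := Fintype.ofEquiv S (equivShrink S)
  let ι : Shrink.{0} S →+* F := S.subtype.comp (Shrink.ringEquiv S).toRingHom
  have hfix : ∀ t, σ t = t → ∃ t₀, ι t₀ = t := fun t ht =>
    ⟨(Shrink.ringEquiv S).symm ⟨t, (hS t).2 ht⟩, by
      show ((Shrink.ringEquiv S ((Shrink.ringEquiv S).symm _) : S) : F) = t
      rw [RingEquiv.apply_symm_apply]⟩
  have hιfix : ∀ t, (σ : F →+* F) (ι t) = ι t := fun t => (hS _).1 (Shrink.ringEquiv S t).2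
  refine ⟨Shrink.{0} S, inferInstance, inferInstance, ?_, ?_⟩
  · rw [Fintype.card_congr (equivShrink S)] at hcard
    exact hcard
  let ψ : D.group (Shrink.{0} S) →* ↥((MulEquiv.toMonoidHom φ).eqLocus (MonoidHom.id ↥(D.group F))) :=
    MonoidHom.codRestrict (MonoidHom.codRestrict ((mapG D ι).comp (D.group _).subtype) (D.group F)
      (fun g => mapG_group_le hD ι ⟨g, g.2, rfl⟩)) _ (fun g => by
        apply Subtype.ext
        have := hpow 1 ⟨mapG D ι g, mapG_group_le hD ι ⟨g, g.2, rfl⟩⟩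
        rw [pow_one, pow_one, mapG_comp_fixed ι (σ : F →+* F) hιfix] at this
        exact this)
  refine ⟨(MulEquiv.ofBijective ψ ⟨fun a b h => ?_, fun g => ?_⟩).symm⟩
  · apply Subtype.ext
    apply mapG_injective ι
    exact congrArg (fun x : ↥((MulEquiv.toMonoidHom φ).eqLocus (MonoidHom.id ↥(D.group F))) =>
      ((x : D.group F) : GL D.Idx F)) h
  · obtain ⟨g, hgφ⟩ := g
    have h1 := hpow 1 g
    have hgφ' : φ g = g := hgφ
    rw [pow_one, pow_one, hgφ'] at h1
    obtain ⟨g₀, hg₀, e⟩ := exists_fixed_eq hD ι (σ : F →+* F) hR hfix htor g.2 h1.symm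
    exact ⟨⟨g₀, hg₀⟩, Subtype.ext (Subtype.ext e)⟩

end Cfsg.Agent.ChevFixed
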